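import Mathlib
import Groth.Agent.Lib.Helper4.RationalExt1

/-!
# Extending a morphism from an open of a curve to a proper scheme across a DVR point (helper2)
-/

set_option backward.isDefEq.respectTransparency.types false
set_option synthInstance.maxHeartbeats 400000
set_option maxHeartbeats 4000000
set_option autoImplicit false
set_option linter.unusedSectionVars false
set_option linter.style.haveILetI false
set_option linter.unusedVariables false
universe u
open CategoryTheory CategoryTheory.Limits AlgebraicGeometry TopologicalSpace IsLocalRing Opposite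

namespace Groth.Agent.Lib.Helper2.CurveExt

theorem main {S X Y : Scheme.{u}} (pX : X ⟶ S) (pY : Y ⟶ S)
    [IsIntegral X] [IsLocallyNoetherian X] [IsProper pY]
    (U : X.Opens) (hU : (U : Set X).Nonempty) (f : (U : Scheme.{u}) ⟶ Y)
    (hf : f ≫ pY = U.ι ≫ pX)
    (x : X) (hdvr : IsDiscreteValuationRing (X.presheaf.stalk x)) :
    ∃ (U' : X.Opens) (hUU' : U ≤ U') (f' : (U' : Scheme.{u}) ⟶ Y), x ∈ U' ∧
      f' ≫ pY = U'.ι ≫ pX ∧ X.homOfLE hUU' ≫ f' = f := by
  have hV : Dense (U : Set X) := U.2.dense hU
  obtain ⟨U', hUU', g', h1, h2, h3⟩ :=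
    Groth.Agent.Lib.Helper4.RationalExt1.extend_to_proper pY pX {x}
      (fun y hy => by
        rw [Set.mem_singleton_iff] at hy
        subst hy
        exact ⟨inferInstance, inferInstance⟩) U hV f hf
  exact ⟨U', hUU', g', h3 x rfl, h1, h2⟩

end Groth.Agent.Lib.Helper2.CurveExt
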